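import Cfsg.Agent.Spor.LyAe.D0

set_option autoImplicit false
set_option maxRecDepth 100000000
set_option Elab.async false

namespace Cfsg.Agent.Spor.LyAe

theorem ok0 : Net.okb 3 n0 = true := by decide +kernel

theorem ok1 : Net.okb 3 n1 = true := by decide +kernel

theorem ok2 : Net.okb 3 n2 = true := by decide +kernel

theorem ok3 : Net.okb 3 n3 = true := by decide +kernel

theorem rel0 : T.rel 3 [1, 1] 0 3 = true := by decide +kernel

theorem rel1 : T.rel 3 [6, 3, 1, 5, 1, 5] 0 3 = true := by decide +kernel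

theorem rel2 : T.rel 3 [2, 6, 6, 2, 7, 7] 0 3 = true := by decide +kernel

theorem rel3 : T.rel 3 [6, 6, 6, 6] 0 3 = true := by decide +kernel

theorem rel4 : T.rel 3 [2, 2, 2, 2, 2] 0 3 = true := by decide +kernel

theorem rel5 : T.rel 3 [2, 6, 2, 6, 2, 6, 2, 7, 4, 7] 0 3 = true := by decide +kernel

theorem rel6 : T.rel 3 [3, 2, 5, 4, 4] 0 3 = true := by decide +kernel

theorem rel7 : T.rel 3 [3, 1, 2, 2, 5, 2, 1, 5, 6] 0 3 = true := by decide +kernel

theorem rel8 : T.rel 3 [3, 3, 7, 7] 0 3 = true := by decide +kernel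

theorem rel9 : T.rel 3 [3, 1, 2, 2, 1, 5, 4, 1, 5, 6, 4] 0 3 = true := by decide +kernel

theorem rel10 : T.rel 3 [1, 2, 6, 4, 7, 2, 2, 7, 4, 4] 0 3 = true := by decide +kernel

theorem hcov : T.treeCov (ones 7) L 1 = true := by decide +kernel

theorem hg : lall (fun z => band (memL L z) (band (sub (ones 7) (T.let z).cl) (T.closed (ones 7) z))) gs = true := by decide +kernel

theorem rot1_1 : T.rot 1 [1] (sel (ones 7) ip1 1) = true := by decide +kernel

theorem rot1_1r : band (Rule.ok (2 * 1) EX RL ⟨1 :: [1], [], 9, false⟩) (lall (memL L) [1]) = true := by decide +kernel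

theorem rot1_2 : T.rot 1 [5, 1, 5, 6, 3] (sel (ones 7) ip1 2) = true := by decide +kernel

theorem rot1_2r : band (Rule.ok (2 * 1) EX RL ⟨1 :: [5, 1, 5, 6, 3], [], 9, false⟩) (lall (memL L) [5, 1, 5, 6, 3]) = true := by decide +kernel

theorem rot1_3 : T.rot 1 [5, 6, 3, 1, 5] (sel (ones 7) ip1 3) = true := by decide +kernel

theorem rot1_3r : band (Rule.ok (2 * 1) EX RL ⟨1 :: [5, 6, 3, 1, 5], [], 9, false⟩) (lall (memL L) [5, 6, 3, 1, 5]) = true := by decide +kernel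

theorem rot1_4 : T.rot 1 [2, 6, 4, 7, 2, 2, 7, 4, 4] (sel (ones 7) ip1 4) = true := by decide +kernel

theorem rot1_4r : band (Rule.ok (2 * 1) EX RL ⟨1 :: [2, 6, 4, 7, 2, 2, 7, 4, 4], [], 8, true⟩) (lall (memL L) [2, 6, 4, 7, 2, 2, 7, 4, 4]) = true := by decide +kernel

theorem rot1_5 : T.rot 1 [5, 4, 1, 5, 6, 4, 3, 1, 2, 2] (sel (ones 7) ip1 5) = true := by decide +kernel

theorem rot1_5r : band (Rule.ok (2 * 1) EX RL ⟨1 :: [5, 4, 1, 5, 6, 4, 3, 1, 2, 2], [5, 0, 3, 3], 7, true⟩) (lall (memL L) [5, 4, 1, 5, 6, 4, 3, 1, 2, 2]) = true := by decide +kernel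

theorem rot1_6 : T.rot 1 [4, 4, 1, 5, 2, 7, 3, 1, 2, 3] (sel (ones 7) ip1 6) = true := by decide +kernel

theorem rot1_6r : band (Rule.ok (2 * 1) EX RL ⟨1 :: [4, 4, 1, 5, 2, 7, 3, 1, 2, 3], [5, 0, 3, 3, 0], 7, false⟩) (lall (memL L) [4, 4, 1, 5, 2, 7, 3, 1, 2, 3]) = true := by decide +kernel

theorem cov1 : T.cover 1 [(sel (ones 7) ip1 1), (sel (ones 7) ip1 2), (sel (ones 7) ip1 3), (sel (ones 7) ip1 4), (sel (ones 7) ip1 5), (sel (ones 7) ip1 6)] = true := by decide +kernel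

theorem tl1 : T.treeLt 3 1 = true := by decide +kernel

theorem rot2_1 : T.rot 2 [4] (sel (ones 7) ip2 1) = true := by decide +kernel

theorem rot2_1r : band (Rule.ok (2 * 1) EX RL ⟨2 :: [4], [], 9, false⟩) (lall (memL L) [4]) = true := by decide +kernel

theorem rot2_2 : T.rot 2 [5, 4, 4, 3] (sel (ones 7) ip2 2) = true := by decide +kernel

theorem rot2_2r : band (Rule.ok (2 * 1) EX RL ⟨2 :: [5, 4, 4, 3], [5], 4, true⟩) (lall (memL L) [5, 4, 4, 3]) = true := by decide +kernel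

theorem rot2_3 : T.rot 2 [2, 1, 5, 4, 1, 5, 6, 4, 3, 1] (sel (ones 7) ip2 3) = true := by decide +kernel

theorem rot2_3r : band (Rule.ok (2 * 1) EX RL ⟨2 :: [2, 1, 5, 4, 1, 5, 6, 4, 3, 1], [5, 0], 7, true⟩) (lall (memL L) [2, 1, 5, 4, 1, 5, 6, 4, 3, 1]) = true := by decide +kernel

theorem cov2 : T.cover 2 [(sel (ones 7) ip2 1), (sel (ones 7) ip2 2), (sel (ones 7) ip2 3), 1] = true := by decide +kernel

theorem tl2 : T.treeLt 3 2 = true := by decide +kernel

theorem rot3_1 : T.rot 3 [7, 7, 3] (sel (ones 7) ip3 1) = true := by decide +kernel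

theorem rot3_1r : band (Rule.ok (2 * 1) EX RL ⟨3 :: [7, 7, 3], [5], 6, true⟩) (lall (memL L) [7, 7, 3]) = true := by decide +kernel

theorem rot3_2 : T.rot 3 [2, 5, 4, 4] (sel (ones 7) ip3 2) = true := by decide +kernel

theorem rot3_2r : band (Rule.ok (2 * 1) EX RL ⟨3 :: [2, 5, 4, 4], [], 4, true⟩) (lall (memL L) [2, 5, 4, 4]) = true := by decide +kernel

theorem rot3_3 : T.rot 3 [4, 5, 2, 2] (sel (ones 7) ip3 3) = true := by decide +kernel

theorem rot3_3r : band (Rule.ok (2 * 1) EX RL ⟨3 :: [4, 5, 2, 2], [3, 3], 4, false⟩) (lall (memL L) [4, 5, 2, 2]) = true := by decide +kernel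

theorem rot3_4 : T.rot 3 [1, 5, 7, 3, 1] (sel (ones 7) ip3 4) = true := by decide +kernel

theorem rot3_4r : band (Rule.ok (2 * 1) EX RL ⟨3 :: [1, 5, 7, 3, 1], [], 9, false⟩) (lall (memL L) [1, 5, 7, 3, 1]) = true := by decide +kernel

theorem rot3_5 : T.rot 3 [4, 4, 1, 5, 7, 3, 1, 4] (sel (ones 7) ip3 5) = true := by decide +kernel

theorem rot3_5r : band (Rule.ok (2 * 1) EX RL ⟨3 :: [4, 4, 1, 5, 7, 3, 1, 4], [5, 0, 4, 2], 5, false⟩) (lall (memL L) [4, 4, 1, 5, 7, 3, 1, 4]) = true := by decide +kernel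

theorem cov3 : T.cover 3 [(sel (ones 7) ip3 1), (sel (ones 7) ip3 2), (sel (ones 7) ip3 3), (sel (ones 7) ip3 4), (sel (ones 7) ip3 5)] = true := by decide +kernel

theorem tl3 : T.treeLt 3 3 = true := by decide +kernel

theorem rot4_1 : T.rot 4 [2] (sel (ones 7) ip4 1) = true := by decide +kernel

theorem rot4_1r : band (Rule.ok (2 * 1) EX RL ⟨4 :: [2], [], 9, false⟩) (lall (memL L) [2]) = true := by decide +kernel

theorem rot4_2 : T.rot 4 [5, 2, 2, 3] (sel (ones 7) ip4 2) = true := by decide +kernel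

theorem rot4_2r : band (Rule.ok (2 * 1) EX RL ⟨4 :: [5, 2, 2, 3], [5, 3], 4, false⟩) (lall (memL L) [5, 2, 2, 3]) = true := by decide +kernel

theorem rot4_3 : T.rot 4 [1, 5, 2, 7, 3, 1, 2, 3, 1, 4] (sel (ones 7) ip4 3) = true := by decide +kernel

theorem rot4_3r : band (Rule.ok (2 * 1) EX RL ⟨4 :: [1, 5, 2, 7, 3, 1, 2, 3, 1, 4], [5, 0, 3], 7, false⟩) (lall (memL L) [1, 5, 2, 7, 3, 1, 2, 3, 1, 4]) = true := by decide +kernel

theorem cov4 : T.cover 4 [(sel (ones 7) ip4 1), (sel (ones 7) ip4 2), (sel (ones 7) ip4 3)] = true := by decide +kernel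

theorem tl4 : T.treeLt 3 4 = true := by decide +kernel

theorem rot5_1 : T.rot 5 [3] (sel (ones 7) ip5 1) = true := by decide +kernel

theorem rot5_1r : band (Rule.ok (2 * 1) EX RL ⟨5 :: [3], [], 9, false⟩) (lall (memL L) [3]) = true := by decide +kernel

theorem rot5_2 : T.rot 5 [5, 6, 6] (sel (ones 7) ip5 2) = true := by decide +kernel

theorem rot5_2r : band (Rule.ok (2 * 1) EX RL ⟨5 :: [5, 6, 6], [5, 5], 6, false⟩) (lall (memL L) [5, 6, 6]) = true := by decide +kernel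

theorem rot5_3 : T.rot 5 [4, 4, 3, 2] (sel (ones 7) ip5 3) = true := by decide +kernel

theorem rot5_3r : band (Rule.ok (2 * 1) EX RL ⟨5 :: [4, 4, 3, 2], [5, 3], 4, true⟩) (lall (memL L) [4, 4, 3, 2]) = true := by decide +kernel

theorem rot5_4 : T.rot 5 [1, 5, 6, 3, 1] (sel (ones 7) ip5 4) = true := by decide +kernel

theorem rot5_4r : band (Rule.ok (2 * 1) EX RL ⟨5 :: [1, 5, 6, 3, 1], [], 9, false⟩) (lall (memL L) [1, 5, 6, 3, 1]) = true := by decide +kernel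

theorem rot5_5 : T.rot 5 [2, 1, 5, 6, 3, 1, 2, 2] (sel (ones 7) ip5 5) = true := by decide +kernel

theorem rot5_5r : band (Rule.ok (2 * 1) EX RL ⟨5 :: [2, 1, 5, 6, 3, 1, 2, 2], [5, 0, 3, 3], 5, true⟩) (lall (memL L) [2, 1, 5, 6, 3, 1, 2, 2]) = true := by decide +kernel

theorem cov5 : T.cover 5 [(sel (ones 7) ip5 1), (sel (ones 7) ip5 2), (sel (ones 7) ip5 3), (sel (ones 7) ip5 4), (sel (ones 7) ip5 5)] = true := by decide +kernel

theorem tl5 : Nat.beq (T.let 5).tt 0 = true := by decide +kernel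

theorem rot6_1 : T.rot 6 [5, 5, 6] (sel (ones 7) ip6 1) = true := by decide +kernel

theorem rot6_1r : band (Rule.ok (2 * 1) EX RL ⟨6 :: [5, 5, 6], [5, 5, 0, 4], 6, true⟩) (lall (memL L) [5, 5, 6]) = true := by decide +kernel

theorem rot6_2 : T.rot 6 [3, 1, 5, 1, 5] (sel (ones 7) ip6 2) = true := by decide +kernel

theorem rot6_2r : band (Rule.ok (2 * 1) EX RL ⟨6 :: [3, 1, 5, 1, 5], [], 9, false⟩) (lall (memL L) [3, 1, 5, 1, 5]) = true := by decide +kernel

theorem rot6_3 : T.rot 6 [4, 7, 2, 2, 7, 4, 4, 1, 2] (sel (ones 7) ip6 3) = true := by decide +kernel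

theorem rot6_3r : band (Rule.ok (2 * 1) EX RL ⟨6 :: [4, 7, 2, 2, 7, 4, 4, 1, 2], [0, 3], 8, true⟩) (lall (memL L) [4, 7, 2, 2, 7, 4, 4, 1, 2]) = true := by decide +kernel

theorem cov6 : T.cover 6 [(sel (ones 7) ip6 1), (sel (ones 7) ip6 2), (sel (ones 7) ip6 3), 1] = true := by decide +kernel

theorem tl6 : Nat.beq (T.let 6).tt 0 = true := by decide +kernel

theorem rot7_1 : T.rot 7 [6] (sel (ones 7) ip7 1) = true := by decide +kernel

theorem rot7_1r : band (Rule.ok (2 * 1) EX RL ⟨7 :: [6], [], 9, false⟩) (lall (memL L) [6]) = true := by decide +kernel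

theorem rot7_2 : T.rot 7 [3, 1, 3, 1, 5] (sel (ones 7) ip7 2) = true := by decide +kernel

theorem rot7_2r : band (Rule.ok (2 * 1) EX RL ⟨7 :: [3, 1, 3, 1, 5], [], 9, false⟩) (lall (memL L) [3, 1, 3, 1, 5]) = true := by decide +kernel

theorem rot7_3 : T.rot 7 [3, 1, 4, 3, 4, 4, 1, 5] (sel (ones 7) ip7 3) = true := by decide +kernel

theorem rot7_3r : band (Rule.ok (2 * 1) EX RL ⟨7 :: [3, 1, 4, 3, 4, 4, 1, 5], [], 5, false⟩) (lall (memL L) [3, 1, 4, 3, 4, 4, 1, 5]) = true := by decide +kernel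

theorem cov7 : T.cover 7 [(sel (ones 7) ip7 1), (sel (ones 7) ip7 2), (sel (ones 7) ip7 3)] = true := by decide +kernel

theorem tl7 : Nat.beq (T.let 7).tt 0 = true := by decide +kernel

end Cfsg.Agent.Spor.LyAe
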