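import Cfsg.Agent.Spor.Chk

set_option autoImplicit false
set_option maxRecDepth 100000000
set_option Elab.async false
noncomputable section

namespace Cfsg.Agent.Spor.LyAe

def m0_0 : Nat := nat_lit 0x11
def m0_1 : Nat := nat_lit 0x11
def m0_2 : Nat := nat_lit 0x11
def n0 : Net := Net.cons 2 m0_0 (Net.cons 1 m0_1 (Net.cons 2 m0_2 (Net.nil)))

def m1_0 : Nat := nat_lit 0x6
def m1_1 : Nat := nat_lit 0x10
def m1_2 : Nat := nat_lit 0x4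
def m1_3 : Nat := nat_lit 0x2
def m1_4 : Nat := nat_lit 0x2
def n1 : Net := Net.cons 4 m1_0 (Net.cons 2 m1_1 (Net.cons 1 m1_2 (Net.cons 2 m1_3 (Net.cons 4 m1_4 (Net.nil)))))

def m2_0 : Nat := nat_lit 0x8
def m2_1 : Nat := nat_lit 0x20
def m2_2 : Nat := nat_lit 0x41
def m2_3 : Nat := nat_lit 0x10
def m2_4 : Nat := nat_lit 0x8
def n2 : Net := Net.cons 4 m2_0 (Net.cons 2 m2_1 (Net.cons 1 m2_2 (Net.cons 2 m2_3 (Net.cons 4 m2_4 (Net.nil)))))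

def m3_0 : Nat := nat_lit 0x2
def m3_1 : Nat := nat_lit 0x14
def m3_2 : Nat := nat_lit 0x12
def m3_3 : Nat := nat_lit 0x4
def n3 : Net := Net.cons 4 m3_0 (Net.cons 1 m3_1 (Net.cons 2 m3_2 (Net.cons 4 m3_3 (Net.nil))))

def ip1 : List Nat := [0x34, 0x58, 0x61]
def l1 : Let := ⟨0, false, 0x7f, 0x4, [0xc, 0x79, 0x18]⟩

def ip2 : List Nat := [0x50, 0x62]
def l2 : Let := ⟨1, false, 0x7f, 0x28, [0x30, 0x22, 0x40]⟩

def ip3 : List Nat := [0x32, 0x60, 0x14]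
def l3 : Let := ⟨2, false, 0x7f, 0x42, [0x60, 0x36, 0x40]⟩

def ip4 : List Nat := [0x39, 0x52]
def l4 : Let := ⟨1, true, 0x7f, 0x10, [0x69, 0x42, 0x10]⟩

def ip5 : List Nat := [0x7a, 0x19, 0x24]
def l5 : Let := ⟨2, true, 0x7f, 0x0, [0x5a, 0x2d, 0x10]⟩

def ip6 : List Nat := [0x48, 0x42]
def l6 : Let := ⟨3, false, 0x4b, 0x0, [0x42, 0xa, 0x48]⟩

def ip7 : List Nat := [0x5, 0x6]
def l7 : Let := ⟨3, true, 0x7, 0x0, [0x7, 0x6, 0x0]⟩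

def NT : List Net := [n0, n1, n2, n3]
def LT : List Let := [⟨0, false, 0, 0, []⟩, l1, l2, l3, l4, l5, l6, l7]
def T : Tab := ⟨NT, LT⟩
def EX : List (List Nat) := [[], [0], [2], [4], [3], [5], [5, 0, 4, 0, 4], [5, 0, 5, 0, 4]]
def RL : List (List Nat) := [[5, 0, 5, 5, 0, 4, 2, 5, 0, 4, 4, 0, 4, 2], [5, 0, 4, 4, 4, 4, 0, 4], [2, 2, 2, 2, 2], [5, 0, 5, 0, 4, 3, 5, 0, 5, 0, 4, 2, 5, 0, 4, 0, 4, 2, 5, 0, 4, 0, 4, 2, 5, 0, 4, 0, 4, 2], [3, 3, 5, 2, 4], [5, 0, 4, 2, 5, 2, 2, 0, 4], [5, 0, 5, 5, 0, 4, 4, 4], [3, 5, 0, 4, 3, 5, 0, 2, 2, 0, 4], [3, 3, 5, 0, 5, 0, 4, 2, 2, 5, 0, 5, 0, 4, 3, 5, 0, 4, 0, 4, 2, 0]]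
def XL : List (List Nat) := []
def BW : List (List Nat) := [[2], [5, 0, 4, 0, 4]]
def IV : Nat := 0x607030205040100
def L : List Nat := [1, 2, 3, 4, 5, 6, 7]
def gs : List Nat := [1, 2, 3]
def base : List Nat := [2, 6]

end Cfsg.Agent.Spor.LyAe
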